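import Cfsg.Agent.Lib.Co2Three.Defs
import Mathlib.GroupTheory.OrderOfElement
import Mathlib.Algebra.Group.Subgroup.Finite

/-!
First consequences of the configuration around the elementary abelian group of order 81: the coordinates, the
similitudes moving a singular point to the central one, and the centraliser of two points on a secant.
-/

set_option autoImplicit false
set_option maxRecDepth 20000
set_option linter.style.haveILetI false

namespace Cfsg.Agent.Co2Three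

open Subgroup

def moveList : List (V4 × Matrix (Fin 4) (Fin 4) (ZMod 3)) := [
  (![0, 0, 0, 1], !![0, 0, 0, 1; 0, 1, 0, 0; 0, 0, 1, 0; 1, 0, 0, 0]),
  (![0, 0, 0, 2], !![0, 0, 0, 2; 0, 1, 0, 0; 0, 0, 1, 0; 2, 0, 0, 0]),
  (![1, 0, 0, 0], !![1, 0, 0, 0; 0, 1, 0, 0; 0, 0, 1, 0; 0, 0, 0, 1]),
  (![1, 0, 1, 1], !![1, 0, 0, 0; 0, 1, 0, 0; 1, 0, 2, 0; 1, 0, 1, 1]),
  (![1, 0, 2, 1], !![1, 0, 0, 0; 0, 1, 0, 0; 2, 0, 2, 0; 1, 0, 2, 1]),
  (![1, 1, 0, 1], !![1, 0, 0, 0; 1, 2, 0, 0; 0, 0, 1, 0; 1, 1, 0, 1]),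
  (![1, 1, 1, 2], !![1, 0, 0, 0; 1, 0, 2, 0; 1, 2, 0, 0; 2, 1, 1, 1]),
  (![1, 1, 2, 2], !![1, 0, 0, 0; 1, 0, 1, 0; 2, 1, 0, 0; 2, 1, 2, 1]),
  (![1, 2, 0, 1], !![1, 0, 0, 0; 2, 2, 0, 0; 0, 0, 1, 0; 1, 2, 0, 1]),
  (![1, 2, 1, 2], !![1, 0, 0, 0; 2, 0, 1, 0; 1, 1, 0, 0; 2, 2, 1, 1]),
  (![1, 2, 2, 2], !![1, 0, 0, 0; 2, 0, 2, 0; 2, 2, 0, 0; 2, 2, 2, 1]),
  (![2, 0, 0, 0], !![2, 0, 1, 2; 0, 1, 0, 0; 0, 0, 1, 1; 0, 0, 0, 2]),
  (![2, 0, 1, 2], !![2, 0, 2, 2; 0, 1, 0, 0; 1, 0, 0, 2; 2, 0, 1, 2]),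
  (![2, 0, 2, 2], !![2, 0, 1, 2; 0, 1, 0, 0; 2, 0, 0, 1; 2, 0, 2, 2]),
  (![2, 1, 0, 2], !![2, 2, 0, 2; 1, 0, 0, 2; 0, 0, 1, 0; 2, 1, 0, 2]),
  (![2, 1, 1, 1], !![2, 1, 1, 1; 1, 2, 1, 1; 1, 1, 2, 1; 1, 1, 1, 2]),
  (![2, 1, 2, 1], !![2, 1, 2, 1; 1, 2, 2, 1; 2, 2, 2, 2; 1, 1, 2, 2]),
  (![2, 2, 0, 2], !![2, 1, 0, 2; 2, 0, 0, 1; 0, 0, 1, 0; 2, 2, 0, 2]),
  (![2, 2, 1, 1], !![2, 2, 1, 1; 2, 2, 2, 2; 1, 2, 2, 1; 1, 2, 1, 2]),
  (![2, 2, 2, 1], !![2, 2, 2, 1; 2, 2, 1, 2; 2, 1, 2, 2; 1, 2, 2, 2])]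

theorem move_cover : ∀ v : V4, v ≠ 0 → qf v = 0 → v ∈ moveList.map Prod.fst := by decide +kernel

theorem move_ok' : moveList.all (fun p => decide (p.2.mulVec p.1 = e0) && decide (∀ v, qf (p.2.mulVec v) = qf v)) =
    true := by decide +kernel

theorem move_ok {p : V4 × Matrix (Fin 4) (Fin 4) (ZMod 3)} (hp : p ∈ moveList) :
    p.2.mulVec p.1 = e0 ∧ ∀ v, qf (p.2.mulVec v) = qf v := by
  simpa using List.all_eq_true.1 move_ok' p hp

theorem qf_smul : ∀ (i : ZMod 3) (v : V4), qf (i • v) = i * i * qf v := by decide +kernel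

theorem bf_e0 : ∀ v : V4, bf e0 v = v 3 := by decide +kernel

theorem qf_add (u v : V4) : qf (u + v) = qf u + qf v + bf u v := by
  simp only [qf, bf, Pi.add_apply]; ring

theorem qf_e0 : qf e0 = 0 := by decide +kernel

theorem e0_ne : e0 ≠ 0 := by decide +kernel

theorem bf_eq (u v : V4) : bf u v = qf (u + v) - qf u - qf v := by rw [qf_add]; ring

/-- A similitude multiplies the polar form by a sign. -/
theorem bf_sim {M : Matrix (Fin 4) (Fin 4) (ZMod 3)} (hM : IsSim M) :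
    (∀ u v, bf (M.mulVec u) (M.mulVec v) = bf u v) ∨ ∀ u v, bf (M.mulVec u) (M.mulVec v) = -bf u v := by
  rcases hM with h | h
  · left; intro u v
    rw [bf_eq, ← Matrix.mulVec_add, h, h, h, bf_eq]
  · right; intro u v
    rw [bf_eq, ← Matrix.mulVec_add, h, h, h, bf_eq]; ring

namespace Loc

variable {G : Type*} [Group G] [Finite G] (L : Loc G)

theorem el_zero : L.el 0 = 1 := by
  have h := L.el_add 0 0
  rw [add_zero] at h
  exact mul_eq_left.1 h.symm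

theorem el_comm (u v : V4) : Commute (L.el u) (L.el v) := by
  rw [Commute, SemiconjBy, ← L.el_add, ← L.el_add, add_comm]

theorem el_neg (v : V4) : L.el (-v) = (L.el v)⁻¹ :=
  eq_inv_of_mul_eq_one_left (by rw [← L.el_add, neg_add_cancel, L.el_zero])

theorem el_sub (u v : V4) : L.el (u - v) = L.el u * (L.el v)⁻¹ := by rw [sub_eq_add_neg, L.el_add, L.el_neg]

theorem el_nsmul (v : V4) (n : ℕ) : L.el (n • v) = L.el v ^ n := by
  induction n with
  | zero => rw [zero_nsmul, pow_zero, L.el_zero]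
  | succ n ih => rw [succ_nsmul, L.el_add, ih, pow_succ]

theorem el_smul (i : ZMod 3) (v : V4) : L.el (i • v) = L.el v ^ i.val := by
  rw [← L.el_nsmul]
  congr 1
  ext k
  simp

theorem el_cube (v : V4) : L.el v ^ 3 = 1 := by
  rw [← L.el_nsmul]
  have : ∀ w : V4, 3 • w = 0 := by decide +kernel
  rw [this, L.el_zero]

theorem el_eq_one {v : V4} : L.el v = 1 ↔ v = 0 :=
  ⟨fun h => L.el_inj (h.trans L.el_zero.symm), fun h => h ▸ L.el_zero⟩

theorem el_order {v : V4} (h : v ≠ 0) : orderOf (L.el v) = 3 :=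
  orderOf_eq_prime (L.el_cube v) fun e => h (L.el_eq_one.1 e)

/-- An element normalising the abelian group. -/
def Norms (g : G) : Prop := ∀ u, ∃ w, g * L.el u * g⁻¹ = L.el w

theorem Norms.mul {g h : G} (hg : L.Norms g) (hh : L.Norms h) : L.Norms (g * h) := fun u => by
  obtain ⟨w, hw⟩ := hh u
  obtain ⟨x, hx⟩ := hg w
  exact ⟨x, by rw [← hx, ← hw]; group⟩

theorem Norms.inv {g : G} (hg : L.Norms g) : L.Norms g⁻¹ := fun u => by
  choose f hf using hg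
  have hinj : Function.Injective f := fun a b e => L.el_inj (by
    have := (hf a).trans ((congrArg L.el e).trans (hf b).symm)
    exact mul_left_cancel (mul_right_cancel this))
  obtain ⟨w, rfl⟩ := Finite.surjective_of_injective hinj u
  exact ⟨w, by rw [← hf]; group⟩

theorem fused_sing {g : G} {u v : V4} (hu : u ≠ 0) (hq : qf u = 0) (h : g * L.el u * g⁻¹ = L.el v) : qf v = 0 := by
  obtain ⟨k, hk⟩ := (L.fused u hu).2 hq
  have hv : v ≠ 0 := fun e => hu (L.el_eq_one.1 (by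
    rw [e, L.el_zero, conj_eq_one_iff] at h
    exact h))
  exact (L.fused v hv).1 ⟨g * k, by rw [← h, ← hk]; group⟩

/-- A similitude moving a singular point to the central one, realised. -/
theorem exists_move {v : V4} (hv : v ≠ 0) (hq : qf v = 0) :
    ∃ (g : G) (M : Matrix (Fin 4) (Fin 4) (ZMod 3)), (∀ u, g * L.el u * g⁻¹ = L.el (M.mulVec u)) ∧
      (∀ u, qf (M.mulVec u) = qf u) ∧ M.mulVec v = e0 := by
  obtain ⟨p, hp, rfl⟩ := List.mem_map.1 (move_cover v hv hq)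
  obtain ⟨h1, h2⟩ := move_ok hp
  obtain ⟨g, hg⟩ := L.realise p.2 (Or.inl h2)
  exact ⟨g, p.2, hg, h2, h1⟩

/-- The centraliser of a singular point and a non-singular one on a secant through it normalises the group. -/
theorem secant' {v b : V4} (hv : v ≠ 0) (hq : qf v = 0) (hvb : bf v b ≠ 0) (hb : qf b ≠ 0) {g : G}
    (g1 : Commute g (L.el v)) (g2 : Commute g (L.el b)) : L.Norms g := by
  obtain ⟨h, M, hM, hMq, hMv⟩ := L.exists_move hv hq
  have hb3 : M.mulVec b 3 ≠ 0 := by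
    rw [← bf_e0 (M.mulVec b), ← hMv, bf_eq, ← Matrix.mulVec_add, hMq, hMq, hMq, ← bf_eq]; exact hvb
  have hc : ∀ u, Commute g (L.el u) → Commute (h * g * h⁻¹) (L.el (M.mulVec u)) := fun u hu => by
    rw [← hM]; exact hu.conj h
  have hn : L.Norms (h * g * h⁻¹) := fun u => L.secant _ hb3 (by rw [hMq]; exact hb) _
    (hMv ▸ hc v g1) (hc b g2) u
  have hh : L.Norms h := fun u => ⟨_, hM u⟩
  simpa [mul_assoc] using (hh.inv.mul L hn).mul L hh

end Loc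

end Cfsg.Agent.Co2Three
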