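import Mathlib.LinearAlgebra.Matrix.SpecialLinearGroup
import Mathlib.Data.Matrix.Mul
import Mathlib.Data.ZMod.Basic
import Mathlib.GroupTheory.Index
import Cfsg.Prelude.Def_Transfer

/-!
The 3-local configuration of the second Conway group around the elementary abelian subgroup of order 81: a
quadratic space of minus type whose ten singular points are the conjugates of the central element.
-/

set_option autoImplicit false

namespace Cfsg.Agent.Co2Three

open Subgroup

/-- The coordinates. -/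
abbrev V4 := Fin 4 → ZMod 3

/-- The quadratic form of minus type. -/
def qf (v : V4) : ZMod 3 := v 0 * v 3 - v 1 * v 1 - v 2 * v 2

/-- Its polar form. -/
def bf (u v : V4) : ZMod 3 := u 0 * v 3 + u 3 * v 0 - 2 * (u 1 * v 1) - 2 * (u 2 * v 2)

/-- The central point. -/
def e0 : V4 := ![1, 0, 0, 0]
/-- A non-singular vector in the tangent plane of the central point. -/
def e1 : V4 := ![0, 1, 0, 0]
/-- The second one. -/
def e2 : V4 := ![0, 0, 1, 0]
/-- The opposite singular point. -/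
def e3 : V4 := ![0, 0, 0, 1]

/-- A similitude of the form. -/
def IsSim (M : Matrix (Fin 4) (Fin 4) (ZMod 3)) : Prop :=
  (∀ v, qf (M.mulVec v) = qf v) ∨ ∀ v, qf (M.mulVec v) = -qf v

/-- The reflection in `e1`. -/
def refl1 (v : V4) : V4 := ![v 0, -v 1, v 2, v 3]

/-- The configuration. -/
structure Loc (G : Type*) [Group G] [Finite G] where
  /-- the elementary abelian group of order 81 -/
  el : V4 → G
  el_add : ∀ u v, el (u + v) = el u * el v
  el_inj : Function.Injective el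
  /-- it is self-centralising -/
  cent_J : ∀ g : G, (∀ v, Commute g (el v)) → ∃ v, g = el v
  /-- its normaliser induces similitudes -/
  norm_sim : ∀ g : G, (∀ v, ∃ w, g * el v * g⁻¹ = el w) →
    ∃ M : Matrix (Fin 4) (Fin 4) (ZMod 3), IsSim M ∧ ∀ v, g * el v * g⁻¹ = el (M.mulVec v)
  /-- and all of them -/
  realise : ∀ M : Matrix (Fin 4) (Fin 4) (ZMod 3), IsSim M →
    ∃ g : G, ∀ v, g * el v * g⁻¹ = el (M.mulVec v)
  /-- the conjugates of the central element are the singular vectors -/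
  fused : ∀ v, v ≠ 0 → ((∃ g : G, g * el e0 * g⁻¹ = el v) ↔ qf v = 0)
  /-- no non-trivial signaliser -/
  no_sig : ∀ K : Subgroup G, (Nat.card K).Coprime 3 → (∀ v, ∀ k ∈ K, el v * k * (el v)⁻¹ ∈ K) → K = ⊥
  /-- the largest normal 3-subgroup of the centraliser of the central element -/
  Q : Subgroup G
  Q_card : Nat.card Q = 243
  Q_extra : Cfsg.IsExtraspecial 3 Q
  Q_exp : ∀ q ∈ Q, q ^ 3 = 1
  Q_le : Q ≤ centralizer {el e0}
  Q_norm : ∀ g ∈ centralizer ({el e0} : Set G), ∀ q ∈ Q, g * q * g⁻¹ ∈ Q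
  Q_J : ∀ v, el v ∈ Q ↔ v 3 = 0
  Q_centre : ∀ x ∈ Q, (∀ q ∈ Q, x * q = q * x) ↔ x ∈ zpowers (el e0)
  /-- a point and a singular point on a secant -/
  secant : ∀ v, v 3 ≠ 0 → qf v ≠ 0 → ∀ g : G, Commute g (el e0) → Commute g (el v) →
    ∀ u, ∃ w, g * el u * g⁻¹ = el w
  /-- a point and a singular point on a tangent: the centre of the core -/
  tangent_core : ∀ b : V4, b 3 = 0 → (b 1 ≠ 0 ∨ b 2 ≠ 0) →
    Nat.card ↥(Q ⊓ centralizer {el b}) = 81 ∧
    ∀ x ∈ Q ⊓ centralizer {el b}, (∀ q ∈ Q ⊓ centralizer {el b}, x * q = q * x) ↔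
      ∃ i j : ZMod 3, x = el (i • e0 + j • b)
  /-- a point and a singular point on a tangent: the quotient -/
  tangent : ∀ b : V4, b 3 = 0 → (b 1 ≠ 0 ∨ b 2 ≠ 0) →
    ∃ f : ↥(centralizer ({el e0} : Set G) ⊓ centralizer {el b}) →* Matrix.SpecialLinearGroup (Fin 2) (ZMod 3),
      Function.Surjective f ∧ ∀ x, f x = 1 ↔ (x : G) ∈ Q
  /-- the reflection in `e1` -/
  t : G
  t_sq : t * t = 1
  t_act : ∀ v, t * el v * t⁻¹ = el (refl1 v)
  /-- the quaternion group at the central point -/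
  P : Subgroup G
  P_card : Nat.card P = 8
  P_le : P ≤ centralizer {el e0} ⊓ centralizer {t}
  t_mem : t ∈ P
  P_invol : ∀ p ∈ P, p * p = 1 → p = 1 ∨ p = t
  P_norm : ∀ g ∈ centralizer ({el e0} : Set G) ⊓ centralizer {t}, ∀ p ∈ P, g * p * g⁻¹ ∈ P
  P_comm : ∀ p ∈ P, ∀ q ∈ Q ⊓ centralizer {t}, p * q = q * p
  /-- the centre is a point not centralising the quaternion group of the opposite point -/
  P_move : ∀ v, v 1 = 0 → v 3 ≠ 0 → ∀ p ∈ P, Commute p (el v) → p = 1 ∨ p = t
  cQt_card : Nat.card ↥(Q ⊓ centralizer {t}) = 27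
  /-- the centraliser of the central element and the reflection -/
  centT : ∃ f : ↥(centralizer ({el e0} : Set G) ⊓ centralizer {t}) →* Matrix.SpecialLinearGroup (Fin 2) (ZMod 3),
    Function.Surjective f ∧
    ∀ x, f x = 1 ↔ ∃ q ∈ Q ⊓ centralizer {t}, ∃ p ∈ P, (x : G) = q * p
  /-- a stabiliser inside it -/
  centT_stab : ∀ g ∈ centralizer ({el e0} : Set G) ⊓ centralizer {t}, Commute g (el e2) →
    ∃ q ∈ Q ⊓ centralizer {t}, ∃ p ∈ P, ∃ k : ℕ, g = q * p * el e3 ^ k

end Cfsg.Agent.Co2Three
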